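import Cfsg.Agent.Fg24.Brauer.Classify
import Cfsg.Agent.SmallOrder.Elements
import Cfsg.Agent.SmallOrder.Basic
import Cfsg.Agent.Classical.Linear2

/-!
Local data at a prime dividing the order of a simple group exactly once.
-/

set_option autoImplicit false

namespace Cfsg.Agent.Order175560

open scoped commutatorElement

open Cfsg.Agent.BlockThms.OrderP Fg24.Brauer

universe u

variable {G : Type u} [Group G] [Finite G]

/-- A decidable consequence of `FForm`. -/
def Check (p n : ℕ) : Prop :=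
  ∃ u ∈ Finset.range n, 0 < u ∧ u * u + u < n * (u + 1) ∧ (n * (u + 1) - (u * u + u)) % (u * p + 1) = 0

instance (p n : ℕ) : Decidable (Check p n) :=
  inferInstanceAs (Decidable (∃ u ∈ Finset.range n, _))

theorem check_of_fform {p n : ℕ} (h : FForm p n) : Check p n := by
  obtain ⟨k, u, hk, hu, he⟩ := h
  have h1 : n * (u + 1) = (u * u + u) + k * (u * p + 1) := by rw [he]; ring
  have h2 : 0 < k * (u * p + 1) := Nat.mul_pos hk (Nat.succ_pos _)
  have h3 : u < n := by
    by_contra h
    have := Nat.mul_le_mul_right (u + 1) (Nat.not_lt.1 h)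
    have h4 : u * (u + 1) = u * u + u := by ring
    omega
  refine ⟨u, Finset.mem_range.2 h3, hu, by omega, ?_⟩
  rw [h1, Nat.add_sub_cancel_left, Nat.mul_mod_left]

variable (G) in
/-- `G` has order `N`, and `n` Sylow `p`-subgroups of order `p` with centralizers of order `p * c`. -/
structure Loc (p n c e : ℕ) : Prop where
  sylow : ∀ P : Sylow p G, Nat.card (P : Subgroup G) = p
  count : Nat.card (Sylow p G) = n
  cent : ∀ P : Sylow p G, Nat.card (Subgroup.centralizer ((P : Subgroup G) : Set G)) = p * c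
  norm : ∀ P : Sylow p G, Nat.card (Subgroup.normalizer ((P : Subgroup G) : Set G)) = p * c * e
  card : Nat.card G = n * (p * c * e)
  mod : n % p = 1
  ne_one : n ≠ 1
  e_dvd : e ∣ p - 1
  two_le : 2 ≤ e

theorem card_centralizer_eq {p : ℕ} [Fact p.Prime] (P Q : Sylow p G) :
    Nat.card (Subgroup.centralizer ((Q : Subgroup G) : Set G)) =
      Nat.card (Subgroup.centralizer ((P : Subgroup G) : Set G)) := by
  obtain ⟨g, rfl⟩ := MulAction.exists_smul_eq G P Q
  refine (Nat.card_congr ((MulAut.conj g).toEquiv.subtypeEquiv fun c => ?_)).symm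
  simp only [Subgroup.mem_centralizer_iff, SetLike.mem_coe]
  constructor
  · intro h v hv
    obtain ⟨w, hw, rfl⟩ := hv
    change (MulAut.conj g) w * (MulAut.conj g) c = (MulAut.conj g) c * (MulAut.conj g) w
    rw [← map_mul, ← map_mul, h w hw]
  · intro h v hv
    apply (MulAut.conj g).injective
    rw [map_mul, map_mul]
    exact h _ ⟨v, hv, rfl⟩

theorem exists_loc [IsSimpleGroup G] (hna : ¬ IsMulCommutative G) (p : ℕ) [Fact p.Prime]
    (hdvd : p ∣ Nat.card G) (hsq : ¬ p ^ 2 ∣ Nat.card G) :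
    ∃ n c e : ℕ, Loc G p n c e ∧ (Check p (n / p) ∨
      Nat.card G * 2 = p * ((p - 1) * (p + 1)) ∨ Nat.card G = p * ((p - 1) * (p - 2))) := by
  classical
  have hp : p.Prime := Fact.out
  have hperf : commutator G = ⊤ := by
    refine (Subgroup.Normal.eq_bot_or_eq_top (H := commutator G) inferInstance).resolve_left fun h => hna ⟨⟨fun a b => ?_⟩⟩
    have h1 : ⁅a, b⁆ ∈ commutator G :=
      Subgroup.commutator_mem_commutator (Subgroup.mem_top a) (Subgroup.mem_top b)
    rw [h, Subgroup.mem_bot] at h1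
    exact commutatorElement_eq_one_iff_mul_comm.1 h1
  obtain ⟨m, hm⟩ := hdvd
  have hpm : ¬ p ∣ m := fun h => hsq (by rw [hm, pow_two]; exact Nat.mul_dvd_mul_left p h)
  have hP : ∀ P : Sylow p G, Nat.card (P : Subgroup G) = p := fun P => by
    simpa using SmallOrder.card_sylow_eq_pow (a := 1) (by rw [pow_one]; exact hm) hpm P
  obtain ⟨P⟩ : Nonempty (Sylow p G) := inferInstance
  obtain ⟨e, hS, he, hnn⟩ := exists_setup hperf P (hP P)
  obtain ⟨k, v, hk, -, hidx, hC, hG, -⟩ := exists_order hS hnn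
  have hcount : Nat.card (Sylow p G) = k * p + 1 := P.card_eq_index_normalizer.trans hidx
  refine ⟨k * p + 1, v, e, ⟨hP, hcount, fun Q => (card_centralizer_eq P Q).trans hC, fun Q => ?_,
    by rw [hG]; ring, ?_, ?_, hS.exists_y.1, he⟩, ?_⟩
  · have h := SmallOrder.card_sylow_mul_card_normalizer Q
    rw [hcount, hG] at h
    rw [Nat.eq_of_mul_eq_mul_left (Nat.succ_pos _) h]
    ring
  · rw [Nat.add_mod, Nat.mul_mod_left, zero_add, Nat.mod_mod, Nat.one_mod_eq_one.2 hp.ne_one]
  · have := Nat.mul_pos hk hp.pos; omega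
  · have hkp : (k * p + 1) / p = k := by
      rw [Nat.mul_comm k p, Nat.mul_add_div hp.pos, Nat.div_eq_of_lt hp.one_lt, add_zero]
    rw [hkp]
    by_cases hF : FForm p k
    · exact Or.inl (check_of_fform hF)
    right
    have hcore : ∀ K : Subgroup G, K.Normal → ¬ p ∣ Nat.card K → K = ⊥ := fun K hK hd =>
      hK.eq_bot_or_eq_top.resolve_right fun h => hd (by rw [h, Subgroup.card_top, hm]; exact dvd_mul_right p m)
    rcases classify hperf P (hP P) hcore hcount hF with
      ⟨K, _, _, hK, hp3, ⟨φ⟩⟩ | ⟨r, K, _, _, hK, hr, hp3, ⟨φ⟩⟩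
    · left
      have h1 := Classical.card_psl_mul (ι := Fin 2) (F := K)
      rw [Classical.card_sl2, Fintype.card_fin, ← Nat.card_congr φ.toEquiv, hK] at h1
      obtain ⟨w, hw⟩ := hp.odd_of_ne_two (by omega : p ≠ 2)
      rw [show Nat.gcd 2 (p - 1) = 2 from Nat.gcd_eq_left ⟨w, by omega⟩] at h1
      have h2 : p ^ 2 - 1 = (p - 1) * (p + 1) := by
        rw [mul_comm, ← Nat.sq_sub_sq, one_pow]
      rw [h2] at h1
      linarith
    · right
      rw [Nat.card_congr φ.toEquiv, Classical.card_sl2, hK,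
        show 2 ^ r = p - 1 by omega]
      obtain ⟨d, hd⟩ : ∃ d, p = d + 2 := ⟨p - 2, by omega⟩
      subst hd
      rw [show d + 2 - 1 = d + 1 by omega, show d + 2 - 2 = d by omega,
        show (d + 1) ^ 2 - 1 = d * (d + 2) by
          rw [show (d + 1) ^ 2 = d * (d + 2) + 1 by ring, Nat.add_sub_cancel]]
      ring

/-- Centralizing is symmetric between primes. -/
theorem Loc.adj {p q n c e n' c' e' : ℕ} [Fact p.Prime] [Fact q.Prime] (hp : Loc G p n c e)
    (hq : Loc G q n' c' e') (hpq : p ≠ q) (h : q ∣ c) : p ∣ c' := by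
  obtain ⟨P⟩ : Nonempty (Sylow p G) := inferInstance
  have hqC : q ∣ Nat.card (Subgroup.centralizer ((P : Subgroup G) : Set G)) := by
    rw [hp.cent P]; exact dvd_mul_of_dvd_right h p
  obtain ⟨y, hy⟩ := exists_prime_orderOf_dvd_card' q hqC
  have hyo : orderOf (y : G) = q := (Subgroup.orderOf_coe y).trans hy
  obtain ⟨Q, hQ⟩ := (IsPGroup.of_card (n := 1) (by rw [Nat.card_zpowers, hyo, pow_one]) :
    IsPGroup q (Subgroup.zpowers (y : G))).exists_le_sylow
  have hQ' : Subgroup.zpowers (y : G) = (Q : Subgroup G) :=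
    Subgroup.eq_of_le_of_card_ge hQ (by rw [hq.sylow, Nat.card_zpowers, hyo])
  have hPQ : (P : Subgroup G) ≤ Subgroup.centralizer ((Q : Subgroup G) : Set G) := by
    rw [← hQ', Subgroup.le_centralizer_iff, Subgroup.zpowers_le]
    exact y.2
  have h1 := Subgroup.card_dvd_of_le hPQ
  rw [hp.sylow, hq.cent] at h1
  exact ((Nat.Prime.dvd_mul Fact.out).1 h1).resolve_left fun hd =>
    hpq ((Nat.prime_dvd_prime_iff_eq Fact.out Fact.out).1 hd)

theorem Loc.card_orderOf {p n c e : ℕ} [Fact p.Prime] (hp : Loc G p n c e) :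
    Nat.card {g : G // orderOf g = p} = n * (p - 1) := by
  rw [SmallOrder.card_orderOf_eq_mul hp.sylow, hp.count]

/-- Lower bound for the number of elements of order `p * q`. -/
theorem Loc.card_orderOf_mul {p q n c e : ℕ} [Fact p.Prime] [Fact q.Prime] (hp : Loc G p n c e)
    (hpq : p ≠ q) (h : q ∣ c) : n * (p - 1) * (q - 1) ≤ Nat.card {g : G // orderOf g = p * q} := by
  classical
  have := Fintype.ofFinite (Sylow p G)
  have hcop : p.Coprime q := (Nat.coprime_primes Fact.out Fact.out).2 hpq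
  have hy : ∀ P : Sylow p G, ∃ y ∈ Subgroup.centralizer ((P : Subgroup G) : Set G), orderOf y = q := fun P => by
    obtain ⟨y, hy⟩ := exists_prime_orderOf_dvd_card' (G := Subgroup.centralizer ((P : Subgroup G) : Set G)) q
      (by rw [hp.cent P]; exact dvd_mul_of_dvd_right h p)
    exact ⟨y, y.2, (Subgroup.orderOf_coe y).trans hy⟩
  choose y hyC hyo using hy
  have hxo : ∀ (P : Sylow p G) (x : (P : Subgroup G)), x ≠ 1 → orderOf (x : G) = p := fun P x hx => by
    rw [Subgroup.orderOf_coe]
    exact ((Nat.dvd_prime Fact.out).1 ((orderOf_dvd_natCard x).trans (hp.sylow P).dvd)).resolve_left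
      fun h => hx (orderOf_eq_one_iff.1 h)
  have hpw : ∀ (P : Sylow p G) (j : Fin (q - 1)), orderOf (y P ^ (j.val + 1)) = q := fun P j => by
    rw [Nat.Coprime.orderOf_pow, hyo]
    rw [hyo]
    exact ((Nat.Prime.coprime_iff_not_dvd Fact.out).2 fun hd => by
      have := Nat.le_of_dvd (Nat.succ_pos _) hd
      have := j.isLt
      omega)
  have hcomm : ∀ (P : Sylow p G) (x : (P : Subgroup G)) (j : ℕ), Commute (x : G) (y P ^ j) :=
    fun P x j => Commute.pow_right (Subgroup.mem_centralizer_iff.1 (hyC P) x x.2) j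
  let F : (Σ P : Sylow p G, {x : (P : Subgroup G) // x ≠ 1} × Fin (q - 1)) → {g : G // orderOf g = p * q} :=
    fun t => ⟨(t.2.1.1 : G) * y t.1 ^ (t.2.2.val + 1), by
      rw [(hcomm _ _ _).orderOf_mul_eq_mul_orderOf_of_coprime (by rw [hxo _ _ t.2.1.2, hpw]; exact hcop),
        hxo _ _ t.2.1.2, hpw]⟩
  have hF : Function.Injective F := by
    rintro ⟨P, ⟨x, hx⟩, j⟩ ⟨P', ⟨x', hx'⟩, j'⟩ h
    have h' : (x : G) * y P ^ (j.val + 1) = (x' : G) * y P' ^ (j'.val + 1) := congrArg Subtype.val h
    have hq1 : ∀ (P : Sylow p G) (x : (P : Subgroup G)) (j : Fin (q - 1)),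
        ((x : G) * y P ^ (j.val + 1)) ^ q = (x : G) ^ q := fun P x j => by
      rw [(hcomm P x _).mul_pow, ← pow_mul, mul_comm, pow_mul,
        show y P ^ q = 1 by rw [← hyo P, pow_orderOf_eq_one], one_pow, mul_one]
    have hxq : (x : G) ^ q = (x' : G) ^ q := by rw [← hq1 P x j, h', hq1]
    have hgen : ∀ (P : Sylow p G) (x : (P : Subgroup G)), x ≠ 1 →
        Subgroup.zpowers ((x : G) ^ q) = (P : Subgroup G) := fun P x hx =>
      Subgroup.eq_of_le_of_card_ge (Subgroup.zpowers_le.2 (pow_mem x.2 q))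
        (by rw [hp.sylow, Nat.card_zpowers, Nat.Coprime.orderOf_pow (by rw [hxo P x hx]; exact hcop), hxo P x hx])
    obtain rfl : P = P' := Sylow.ext (by rw [← hgen P x hx, hxq, hgen P' x' hx'])
    obtain rfl : x = x' := Subtype.ext (by
      have hx1 : ∀ z : (P : Subgroup G), (z : G) ^ p = 1 := fun z => by
        have := pow_card_eq_one' (x := z)
        rw [hp.sylow P] at this
        exact_mod_cast congrArg Subtype.val this
      obtain ⟨a, -, ha⟩ := Nat.exists_mul_mod_eq_one_of_coprime hcop.symm (Fact.out : p.Prime).one_lt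
      have key : ∀ z : (P : Subgroup G), ((z : G) ^ q) ^ a = z := fun z => by
        rw [← pow_mul, ← Nat.mod_add_div (q * a) p, ha, pow_add, pow_mul, hx1, one_pow, mul_one, pow_one]
      rw [← key x, hxq, key x'])
    have hj : y P ^ (j.val + 1) = y P ^ (j'.val + 1) := mul_left_cancel h'
    have : j = j' := Fin.ext (by
      have hmod := pow_eq_pow_iff_modEq.1 hj
      rw [hyo P] at hmod
      have := j.isLt
      have := j'.isLt
      have h1 : (j.val + 1) % q = j.val + 1 := Nat.mod_eq_of_lt (by omega)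
      have h2 : (j'.val + 1) % q = j'.val + 1 := Nat.mod_eq_of_lt (by omega)
      rw [Nat.ModEq, h1, h2] at hmod
      omega)
    subst this
    rfl
  refine le_trans (le_of_eq ?_) (Nat.card_le_card_of_injective F hF)
  rw [Nat.card_sigma, Finset.sum_congr rfl (g := fun _ => (p - 1) * (q - 1)) fun P _ => ?_,
    Finset.sum_const, Finset.card_univ, smul_eq_mul, ← Nat.card_eq_fintype_card, hp.count, mul_assoc]
  have := Fintype.ofFinite (P : Subgroup G)
  rw [Nat.card_prod, Nat.card_fin, Nat.card_eq_fintype_card, Fintype.card_subtype_compl,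
    Fintype.card_subtype_eq, ← Nat.card_eq_fintype_card, hp.sylow]

end Cfsg.Agent.Order175560
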