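import Cfsg.Agent.Order175560.Local
import Cfsg.Agent.TwoTransfer.Basic

/-!
Groups of order dividing 175560 and their Sylow 19-subgroups.
-/

set_option autoImplicit false

namespace Cfsg.Agent.Order175560

universe u

/-- In a simple group with Sylow 2-subgroups of order 8 every involution is central in one of them. -/
theorem eight_dvd_centralizer {G : Type u} [Group G] [Finite G] [IsSimpleGroup G]
    (hna : ¬ IsMulCommutative G) (S : Sylow 2 G) (hS : Nat.card (S : Subgroup G) = 8) (x₀ : G)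
    (hx₀ : orderOf x₀ = 2) : 8 ∣ Nat.card (Subgroup.centralizer ({x₀} : Set G)) := by
  have : Fact (Nat.Prime 2) := ⟨Nat.prime_two⟩
  obtain ⟨T, hT⟩ := (IsPGroup.of_card (n := 1) (by rw [Nat.card_zpowers, hx₀, pow_one]) :
    IsPGroup 2 (Subgroup.zpowers x₀)).exists_le_sylow
  have hT8 : Nat.card (T : Subgroup G) = 8 := by rw [T.card_eq_multiplicity, ← S.card_eq_multiplicity, hS]
  have hxT : x₀ ∈ (T : Subgroup G) := hT (Subgroup.mem_zpowers x₀)
  have hcentral : ∀ z ∈ (T : Subgroup G), (∀ s ∈ (T : Subgroup G), s * z = z * s) →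
      8 ∣ Nat.card (Subgroup.centralizer ({z} : Set G)) := fun z _ hz => by
    have h := Subgroup.card_dvd_of_le (show (T : Subgroup G) ≤ Subgroup.centralizer {z} from
      fun s hs => Subgroup.mem_centralizer_singleton_iff.2 (hz s hs))
    rwa [hT8] at h
  by_cases hcomm : ∀ a ∈ (T : Subgroup G), ∀ b ∈ (T : Subgroup G), a * b = b * a
  · exact hcentral x₀ hxT fun s hs => hcomm s hs x₀ hxT
  obtain ⟨m, hmT, hm⟩ : ∃ m ∈ (T : Subgroup G), orderOf m = 4 := by
    by_contra! hc
    refine hcomm fun a ha b hb => ?_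
    have h2 : ∀ c ∈ (T : Subgroup G), c * c = 1 := fun c hc' => by
      rw [← pow_two, ← orderOf_dvd_iff_pow_eq_one]
      have h8 : orderOf c ∣ 2 ^ 3 := by
        simpa [hT8] using (T : Subgroup G).orderOf_dvd_natCard hc'
      obtain ⟨i, hi, hi'⟩ := (Nat.dvd_prime_pow Nat.prime_two).1 h8
      have h4 : i ≠ 2 := fun h => hc c hc' (by rw [hi', h]; norm_num)
      have h3 : i ≠ 3 := fun h => hc (c ^ 2) (pow_mem hc' 2) (by
        rw [orderOf_pow, hi', h]; norm_num)
      interval_cases i <;> simp_all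
    have h1 := h2 _ (mul_mem ha hb)
    calc a * b = (a * b)⁻¹ := eq_inv_of_mul_eq_one_left h1
      _ = b⁻¹ * a⁻¹ := mul_inv_rev a b
      _ = b * a := by rw [← eq_inv_of_mul_eq_one_left (h2 b hb), ← eq_inv_of_mul_eq_one_left (h2 a ha)]
  set M := Subgroup.zpowers m with hM
  have hMT : M ≤ (T : Subgroup G) := Subgroup.zpowers_le.2 hmT
  have hrel : M.relIndex (T : Subgroup G) = 2 := by
    have h := (M.subgroupOf (T : Subgroup G)).card_mul_index
    rw [Nat.card_congr (Subgroup.subgroupOfEquivOfLe hMT).toEquiv, hM, Nat.card_zpowers, hm, hT8] at h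
    show (M.subgroupOf (T : Subgroup G)).index = 2
    rw [hM]; omega
  have hinv : ∀ z ∈ M, orderOf z = 2 → z = m ^ 2 := fun z hz hz2 => by
    rw [hM, ← mem_powers_iff_mem_zpowers, Submonoid.mem_powers_iff] at hz
    obtain ⟨i, rfl⟩ := hz
    have h1 : (m ^ i) ^ 2 = 1 := by rw [← hz2, pow_orderOf_eq_one]
    rw [← pow_mul, ← orderOf_dvd_iff_pow_eq_one, hm] at h1
    have h2 : ¬ 4 ∣ i := fun hd => by
      rw [← hm, orderOf_dvd_iff_pow_eq_one] at hd
      rw [hd, orderOf_one] at hz2
      omega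
    rw [← pow_mod_orderOf m i, hm, show i % 4 = 2 by omega]
  have hnorm : ∀ s ∈ (T : Subgroup G), s * m ^ 2 = m ^ 2 * s := fun s hs => by
    have hn : (M.subgroupOf (T : Subgroup G)).Normal := Subgroup.normal_of_index_eq_two hrel
    have hmem : (⟨m ^ 2, pow_mem hmT 2⟩ : (T : Subgroup G)) ∈ M.subgroupOf (T : Subgroup G) :=
      Subgroup.mem_subgroupOf.2 (pow_mem (Subgroup.mem_zpowers m) 2)
    have h1 : s * m ^ 2 * s⁻¹ ∈ M := Subgroup.mem_subgroupOf.1 (hn.conj_mem _ hmem ⟨s, hs⟩)
    have h2 : orderOf (m ^ 2) = 2 := by rw [orderOf_pow, hm]; norm_num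
    have h3 := hinv _ h1 (by
      rw [show s * m ^ 2 * s⁻¹ = MulAut.conj s (m ^ 2) from rfl, MulEquiv.orderOf_eq, h2])
    exact mul_inv_eq_iff_eq_mul.1 h3
  by_contra hnot
  have key : ∀ g : G, g⁻¹ * x₀ * g ∈ (T : Subgroup G) → g⁻¹ * x₀ * g ∉ M := fun g _ hgM => by
    refine hnot ?_
    have h1 : g⁻¹ * x₀ * g = m ^ 2 := hinv _ hgM (by
      rw [show g⁻¹ * x₀ * g = MulAut.conj g⁻¹ x₀ by simp, MulEquiv.orderOf_eq, hx₀])
    have h2 := hcentral (m ^ 2) (pow_mem hmT 2) hnorm
    rw [← h1] at h2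
    refine h2.trans (dvd_of_eq (Nat.card_congr ((MulAut.conj g).toEquiv.subtypeEquiv fun c => ?_)))
    simp only [Subgroup.mem_centralizer_singleton_iff, MulEquiv.toEquiv_eq_coe, EquivLike.coe_coe,
      MulAut.conj_apply]
    constructor <;> intro h
    · calc g * c * g⁻¹ * x₀ = g * (c * (g⁻¹ * x₀ * g)) * g⁻¹ := by group
        _ = g * ((g⁻¹ * x₀ * g) * c) * g⁻¹ := by rw [h]
        _ = x₀ * (g * c * g⁻¹) := by group
    · calc c * (g⁻¹ * x₀ * g) = g⁻¹ * ((g * c * g⁻¹) * x₀) * g := by group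
        _ = g⁻¹ * (x₀ * (g * c * g⁻¹)) * g := by rw [h]
        _ = (g⁻¹ * x₀ * g) * c := by group
  obtain ⟨N, hN, hidx, hxN⟩ := TwoTransfer.exists_index_two T M hrel x₀ hxT (fun k g hk _ => by
    have h1 : x₀ ^ (2 ^ k) = 1 := by
      rw [← orderOf_dvd_iff_pow_eq_one, hx₀]
      exact dvd_pow_self 2 (by omega)
    rw [h1]; simp) key
  rcases hN.eq_bot_or_eq_top with h | h
  · rw [h, Subgroup.index_bot] at hidx
    exact hna (by
      have := isCyclic_of_prime_card (p := 2) hidx
      exact ⟨⟨fun a b => (IsCyclic.commGroup (α := G)).mul_comm a b⟩⟩)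
  · exact hxN (h ▸ Subgroup.mem_top x₀)

/-- The property to be proved below a given order. -/
def Below (N : ℕ) : Prop :=
  ∀ (H : Type u) [Group H] [Finite H], Nat.card H < N → Nat.card H ∣ 175560 → 19 ∣ Nat.card H →
    ∀ P : Sylow 19 H, (P : Subgroup H).Normal

variable {G : Type u} [Group G] [Finite G]

theorem of_normal_ge (hG : Nat.card G ∣ 175560) (ih : Below.{u} (Nat.card G)) (P : Sylow 19 G)
    (hP : Nat.card (P : Subgroup G) = 19) (M : Subgroup G) [M.Normal] (hle : (P : Subgroup G) ≤ M)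
    (hM : M ≠ ⊤) : (P : Subgroup G).Normal := by
  have : Fact (Nat.Prime 19) := ⟨by norm_num⟩
  have hlt : Nat.card M < Nat.card G :=
    lt_of_le_of_ne M.card_le_card_group fun h => hM (Subgroup.eq_top_of_card_eq M h)
  have hn : ((P.subtype hle : Sylow 19 M) : Subgroup M).Normal :=
    ih M hlt (M.card_subgroup_dvd_card.trans hG) (hP ▸ Subgroup.card_dvd_of_le hle) _
  have hc : ((P.subtype hle : Sylow 19 M) : Subgroup M).Characteristic := Sylow.characteristic_of_normal _ hn
  have h : (((P.subtype hle : Sylow 19 M) : Subgroup M).map M.subtype).Normal := ConjAct.normal_of_characteristic_of_normal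
  rwa [Sylow.coe_subtype, Subgroup.subgroupOf_map_subtype, inf_eq_left.2 hle] at h

theorem lt_nineteen {r k : ℕ} (hr : r.Prime) (h : r ^ k ∣ 9240) : r ^ k < 19 := by
  rcases eq_or_ne r 2 with rfl | h2
  · have : 2 ^ k ∣ 8 := ((Nat.Coprime.pow_left k (by norm_num : Nat.Coprime 2 1155))).dvd_of_dvd_mul_right
      (show 2 ^ k ∣ 8 * 1155 from h)
    have := Nat.le_of_dvd (by norm_num) this
    omega
  have h3 : r ^ k ∣ 1155 := ((Nat.Coprime.pow k 3 ((Nat.coprime_primes hr Nat.prime_two).2 h2))).dvd_of_dvd_mul_left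
    (show r ^ k ∣ 2 ^ 3 * 1155 from h)
  have hk : k ≤ 1 := by
    by_contra hk
    have h4 : r * r ∣ 1155 := (pow_two r ▸ pow_dvd_pow r (show 2 ≤ k by omega)).trans h3
    have h5 : Squarefree 1155 := by
      rw [Nat.squarefree_iff_minSqFac]
      decide +kernel
    exact hr.not_isUnit (h5 r h4)
  interval_cases k
  · norm_num
  · rw [pow_one] at h3 ⊢
    have h4 : r ∈ Nat.primeFactors 1155 := Nat.mem_primeFactors.2 ⟨hr, h3, by norm_num⟩
    have h5 : ∀ s ∈ Nat.divisors 1155, s.Prime → s < 19 := by decide +kernel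
    exact h5 r (Nat.mem_divisors.2 ⟨h3, by norm_num⟩) hr

theorem of_not_simple (hG : Nat.card G ∣ 175560) (h19 : 19 ∣ Nat.card G) (ih : Below.{u} (Nat.card G))
    (N : Subgroup G) [N.Normal] (hN0 : N ≠ ⊥) (hN1 : N ≠ ⊤) (P : Sylow 19 G) : (P : Subgroup G).Normal := by
  classical
  have : Fact (Nat.Prime 19) := ⟨by norm_num⟩
  obtain ⟨m, hm⟩ := h19
  have hm19 : ¬ 19 ∣ m := fun ⟨c, hc⟩ => by
    rw [hm, hc, ← mul_assoc] at hG
    exact absurd ((dvd_mul_right (19 * 19) c).trans hG) (by norm_num)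
  have hP : Nat.card (P : Subgroup G) = 19 := by
    simpa using SmallOrder.card_sylow_eq_pow (a := 1) (by rw [pow_one]; exact hm) hm19 P
  have hmN := N.card_mul_index
  by_cases hd : 19 ∣ Nat.card N
  · refine of_normal_ge hG ih P hP N ?_ hN1
    intro g hg
    rw [← QuotientGroup.eq_one_iff]
    have h1 : orderOf (g : G ⧸ N) ∣ 19 :=
      (orderOf_map_dvd (QuotientGroup.mk' N) g).trans (hP ▸ (P : Subgroup G).orderOf_dvd_natCard hg)
    rcases (Nat.dvd_prime (by norm_num)).1 h1 with h | h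
    · exact orderOf_eq_one_iff.1 h
    · exfalso
      have h2 : 19 ∣ N.index := by
        rw [Subgroup.index_eq_card, ← h]; exact orderOf_dvd_natCard _
      obtain ⟨c, hc⟩ := hd
      obtain ⟨c', hc'⟩ := h2
      rw [hm, hc, hc'] at hmN
      exact hm19 ⟨c * c', by linarith⟩
  · have hlt : Nat.card (G ⧸ N) < Nat.card G := by
      rw [← Subgroup.index_eq_card, ← hmN]
      have : 1 < Nat.card N := N.one_lt_card_iff_ne_bot.2 hN0
      exact lt_mul_left (Nat.pos_of_ne_zero Subgroup.index_ne_zero_of_finite) this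
    have h19q : 19 ∣ Nat.card (G ⧸ N) := by
      rw [← Subgroup.index_eq_card]
      exact ((Nat.Prime.coprime_iff_not_dvd (by norm_num)).2 hd).dvd_of_dvd_mul_left (hmN ▸ hm ▸ dvd_mul_right 19 m)
    have hQ := ih (G ⧸ N) hlt ((N.card_quotient_dvd_card).trans hG) h19q
      (P.mapSurjective (QuotientGroup.mk'_surjective N))
    rw [Sylow.coe_mapSurjective] at hQ
    set M := (P : Subgroup G) ⊔ N with hMdef
    have hM : M.Normal := by
      have := hQ.comap (QuotientGroup.mk' N)
      rwa [Subgroup.comap_map_eq, QuotientGroup.ker_mk'] at this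
    by_cases hMt : M = ⊤
    swap
    · exact of_normal_ge hG ih P hP M le_sup_left hMt
    have hcard : Nat.card G = 19 * Nat.card N := by
      have h1 : N.relIndex (P : Subgroup G) ∣ 19 :=
        (Subgroup.relIndex_dvd_card N (P : Subgroup G)).trans hP.dvd
      have h2 : N.index = N.relIndex (P : Subgroup G) := by
        rw [← Subgroup.relIndex_top_right, ← hMt, hMdef, Subgroup.relIndex_sup_right]
      rcases (Nat.dvd_prime (by norm_num)).1 h1 with h | h
      · rw [h, Subgroup.index_eq_one] at h2; exact absurd h2 hN1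
      · rw [← hmN, h2, h, mul_comm]
    have hN9240 : Nat.card N ∣ 9240 := Nat.dvd_of_mul_dvd_mul_left (by norm_num : 0 < 19)
      (by rw [← hcard]; exact hG)
    set C := N ⊓ Subgroup.centralizer ((P : Subgroup G) : Set G) with hC
    have hdvd : Nat.card N ∣ Nat.card C := by
      refine (Nat.dvd_iff_prime_pow_dvd_dvd _ _).2 fun r k hr hrk => ?_
      have : Fact r.Prime := ⟨hr⟩
      obtain ⟨R, hR⟩ := Sylow.exists_subgroup_card_pow_prime (G := N) r hrk
      obtain ⟨R₁, hR₁⟩ := (IsPGroup.of_card hR).exists_le_sylow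
      have hdvd₁ : r ^ k ∣ Nat.card (R₁ : Subgroup N) := hR ▸ Subgroup.card_dvd_of_le hR₁
      refine hdvd₁.trans ?_
      have hfr := Sylow.normalizer_sup_eq_top R₁
      set L := Subgroup.normalizer (((R₁ : Subgroup N).map N.subtype : Subgroup G) : Set G) with hL
      have h19L : 19 ∣ Nat.card L := by
        have h1 : N.index = N.relIndex L := by
          rw [← Subgroup.relIndex_top_right, ← hfr, Subgroup.relIndex_sup_right]
        have h2 := Subgroup.relIndex_dvd_card N L
        rw [← h1] at h2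
        exact h19q.trans (Subgroup.index_eq_card N ▸ h2)
      obtain ⟨y, hy⟩ := exists_prime_orderOf_dvd_card' 19 h19L
      have hy' : orderOf (y : G) = 19 := (Subgroup.orderOf_coe y).trans hy
      have hsmall : Nat.card (R₁ : Subgroup N) < 19 := by
        obtain ⟨j, hj⟩ := IsPGroup.iff_card.1 R₁.isPGroup'
        rw [hj]
        exact lt_nineteen hr (hj ▸ ((R₁ : Subgroup N).card_subgroup_dvd_card.trans hN9240))
      have hcen : ∀ x ∈ (R₁ : Subgroup N).map N.subtype, (y : G) * x = x * y := by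
        intro x hx
        let f : Fin 19 → ((R₁ : Subgroup N).map N.subtype : Subgroup G) := fun i =>
          ⟨(y : G) ^ i.val * x * ((y : G) ^ i.val)⁻¹,
            (Subgroup.mem_normalizer_iff.1 (pow_mem y.2 i.val) x).1 hx⟩
        obtain ⟨i, j, hij, hne⟩ : ∃ i j, f i = f j ∧ i ≠ j := by
          refine Function.not_injective_iff.1 fun hinj => ?_
          have h1 := Nat.card_le_card_of_injective f hinj
          rw [Nat.card_fin, Subgroup.card_map_of_injective N.subtype_injective] at h1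
          omega
        have hij' : (y : G) ^ i.val * x * ((y : G) ^ i.val)⁻¹ = (y : G) ^ j.val * x * ((y : G) ^ j.val)⁻¹ :=
          congrArg Subtype.val hij
        have hz : ((y : G) ^ j.val)⁻¹ * (y : G) ^ i.val ∈ Subgroup.centralizer ({x} : Set G) := by
          rw [Subgroup.mem_centralizer_singleton_iff]
          calc ((y : G) ^ j.val)⁻¹ * (y : G) ^ i.val * x
              = ((y : G) ^ j.val)⁻¹ * ((y : G) ^ i.val * x * ((y : G) ^ i.val)⁻¹) * (y : G) ^ i.val := by group
            _ = x * (((y : G) ^ j.val)⁻¹ * (y : G) ^ i.val) := by rw [hij']; group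
        have hz' : ((y : G) ^ j.val)⁻¹ * (y : G) ^ i.val = (y : G) ^ ((i.val : ℤ) - j.val) := by
          rw [zpow_sub, zpow_natCast, zpow_natCast]
          exact ((Commute.refl (y : G)).pow_pow i.val j.val).inv_right.eq.symm
        rw [hz'] at hz
        have hgcd : IsCoprime ((i.val : ℤ) - j.val) (19 : ℤ) := by
          refine ((Nat.prime_iff_prime_int.1 (by norm_num : Nat.Prime 19)).coprime_iff_not_dvd.2 ?_).symm
          intro hd
          have hi := i.isLt
          have hj := j.isLt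
          exact hne (Fin.ext (by omega))
        obtain ⟨a, b, hab⟩ := hgcd
        have : (y : G) ∈ Subgroup.centralizer ({x} : Set G) := by
          have h19z : (y : G) ^ (19 : ℤ) = 1 := by
            rw [show (19 : ℤ) = ((orderOf (y : G) : ℕ) : ℤ) by rw [hy']; norm_num, zpow_natCast,
              pow_orderOf_eq_one]
          rw [← zpow_one (y : G), ← hab, zpow_add, mul_comm a, zpow_mul, mul_comm b, zpow_mul, h19z,
            one_zpow, mul_one]
          exact zpow_mem hz a
        exact Subgroup.mem_centralizer_singleton_iff.1 this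
      obtain ⟨Q, hQle⟩ := (IsPGroup.of_card (n := 1) (by rw [Nat.card_zpowers, hy', pow_one]) :
        IsPGroup 19 (Subgroup.zpowers (y : G))).exists_le_sylow
      have hQ' : Subgroup.zpowers (y : G) = (Q : Subgroup G) :=
        Subgroup.eq_of_le_of_card_ge hQle (by
          rw [Q.card_eq_multiplicity, ← P.card_eq_multiplicity, hP, Nat.card_zpowers, hy'])
      obtain ⟨g, hg⟩ := MulAction.exists_smul_eq G Q P
      have hPz : (P : Subgroup G) = Subgroup.zpowers (g * y * g⁻¹) := by
        rw [← hg, Sylow.coe_subgroup_smul, ← hQ', Subgroup.pointwise_smul_def]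
        exact MonoidHom.map_zpowers (MulAut.conj g).toMonoidHom (y : G)
      have hinj : Function.Injective ((MulAut.conj g).toMonoidHom.comp N.subtype) := fun a b hab =>
        N.subtype_injective ((MulAut.conj g).injective hab)
      rw [← Subgroup.card_map_of_injective (K := (R₁ : Subgroup N)) hinj]
      refine Subgroup.card_dvd_of_le ?_
      rintro _ ⟨x, hx, rfl⟩
      refine ⟨(inferInstance : N.Normal).conj_mem _ x.2 g, ?_⟩
      show g * (x : G) * g⁻¹ ∈ Subgroup.centralizer ((P : Subgroup G) : Set G)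
      rw [hPz, Subgroup.mem_centralizer_iff]
      intro v hv
      obtain ⟨i, rfl⟩ := hv
      have hc : Commute (g * (y : G) * g⁻¹) (g * (x : G) * g⁻¹) :=
        (show Commute (y : G) (x : G) from hcen _ (Subgroup.mem_map_of_mem _ hx)).map (MulAut.conj g).toMonoidHom
      exact (hc.zpow_left i).eq
    have hNC : N ≤ Subgroup.centralizer ((P : Subgroup G) : Set G) := by
      have h1 : C = N := Subgroup.eq_of_le_of_card_ge inf_le_left (Nat.le_of_dvd Nat.card_pos hdvd)
      exact h1 ▸ inf_le_right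
    rw [← Subgroup.normalizer_eq_top_iff, eq_top_iff, ← hMt]
    exact sup_le Subgroup.le_normalizer (hNC.trans (Subgroup.centralizer_le_normalizer _))

/-- Possible Sylow data. -/
theorem options {p n c e m : ℕ} [Fact p.Prime] (h : Loc G p n c e) (hm : Nat.card G = p * m)
    (hx : Check p (n / p) ∨ Nat.card G * 2 = p * ((p - 1) * (p + 1)) ∨ Nat.card G = p * ((p - 1) * (p - 2)))
    (h1 : p * m * 2 ≠ p * ((p - 1) * (p + 1))) (h2 : p * m ≠ p * ((p - 1) * (p - 2)))
    (bad : List ℕ) (hbad : ∀ q ∈ bad, ¬ q ∣ c) (L : List (ℕ × ℕ))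
    (hL : ∀ n' ∈ Nat.divisors m, n' % p = 1 → n' ≠ 1 → Check p (n' / p) → ∀ e' ∈ Nat.divisors (p - 1),
      2 ≤ e' → n' * e' ∣ m → (∀ q ∈ bad, ¬ q ∣ m / (n' * e')) → (n', m / (n' * e')) ∈ L) :
    (n, c) ∈ L := by
  have hp : p.Prime := Fact.out
  rw [hm] at hx
  have hck := (hx.resolve_right fun h' => h'.elim h1 h2)
  have heq : m = n * e * c := by
    refine Nat.eq_of_mul_eq_mul_left hp.pos ?_
    rw [← hm, h.card]; ring
  have hm0 : m ≠ 0 := fun h0 => Nat.card_pos.ne' (by rw [hm, h0, mul_zero] : Nat.card G = 0)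
  have hne : 0 < n * e := Nat.pos_of_ne_zero fun h0 => hm0 (by rw [heq, h0, zero_mul])
  have hc : m / (n * e) = c := by rw [heq, Nat.mul_div_cancel_left c hne]
  have := hL n (Nat.mem_divisors.2 ⟨⟨e * c, by rw [heq, mul_assoc]⟩, hm0⟩) h.mod h.ne_one hck e
    (Nat.mem_divisors.2 ⟨h.e_dvd, by have := hp.two_le; omega⟩) h.two_le ⟨c, heq⟩
    (by rw [hc]; exact hbad)
  rwa [hc] at this

theorem count_contra {N : ℕ} (hN : Nat.card G = N) (l : List (ℕ × ℕ)) (hnd : (l.map Prod.fst).Nodup)
    (hl : ∀ t ∈ l, t.2 ≤ Nat.card {g : G // orderOf g = t.1}) (h : N < (l.map Prod.snd).sum) : False := by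
  have h1 := SmallOrder.card_orderOf_disjoint_le (G := G) (l.map Prod.fst).toFinset
  rw [List.sum_toFinset _ hnd, List.map_map] at h1
  have h2 : (l.map Prod.snd).sum ≤ (l.map ((fun n => Nat.card {g : G // orderOf g = n}) ∘ Prod.fst)).sum :=
    List.sum_le_sum hl
  omega

theorem not_simple [IsSimpleGroup G] (hna : ¬ IsMulCommutative G) (hG : Nat.card G ∣ 175560)
    (hlt : Nat.card G < 175560) (h19 : 19 ∣ Nat.card G) (ih : Below.{u} (Nat.card G)) : False := by
  have : Fact (Nat.Prime 19) := ⟨by norm_num⟩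
  have : Fact (Nat.Prime 11) := ⟨by norm_num⟩
  have : Fact (Nat.Prime 7) := ⟨by norm_num⟩
  have : Fact (Nat.Prime 5) := ⟨by norm_num⟩
  have : Fact (Nat.Prime 3) := ⟨by norm_num⟩
  have hsq : ¬ 19 ^ 2 ∣ Nat.card G := fun h => absurd (h.trans hG) (by norm_num)
  obtain ⟨n, c, e, h, hx⟩ := exists_loc hna 19 h19 hsq
  obtain ⟨m, hm⟩ := h19
  have hx' : Check 19 (n / 19) := by
    rcases hx with hx | hx | hx
    · exact hx
    · rw [show Nat.card G = 3420 by omega] at hG; norm_num at hG
    · rw [hx] at hG; norm_num at hG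
  have hm9240 : m ∣ 9240 := Nat.dvd_of_mul_dvd_mul_left (by norm_num : 0 < 19) (hm ▸ hG)
  have heq : m = n * e * c := by
    refine Nat.eq_of_mul_eq_mul_left (by norm_num : 0 < 19) ?_
    rw [← hm, h.card]; ring
  have hn : n = 210 ∨ n = 1540 := by
    have hd : n ∣ 9240 := (Dvd.intro (e * c) (by rw [heq, mul_assoc])).trans hm9240
    have hall : ∀ n' ∈ Nat.divisors 9240, n' % 19 = 1 → n' ≠ 1 → Check 19 (n' / 19) →
        n' = 210 ∨ n' = 1540 := by decide +kernel
    exact hall n (Nat.mem_divisors.2 ⟨hd, by norm_num⟩) h.mod h.ne_one hx'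
  have hec : (Nat.card G, n, c) ∈ ([(7980, 210, 1), (15960, 210, 2), (87780, 210, 11), (58520, 1540, 1),
      (87780, 1540, 1)] : List (ℕ × ℕ × ℕ)) := by
    have hd : n * e * c ∣ 9240 := heq ▸ hm9240
    have hne : n * e * c ≠ 9240 := fun h' => by rw [hm, heq, h'] at hlt; norm_num at hlt
    rw [hm, heq]
    have hall : ∀ e' ∈ Nat.divisors 18, 2 ≤ e' → ∀ c' ∈ Nat.divisors 9240, ∀ n' ∈ [210, 1540],
        n' * e' * c' ∣ 9240 → n' * e' * c' ≠ 9240 →
        (19 * (n' * e' * c'), n', c') ∈ ([(7980, 210, 1), (15960, 210, 2), (87780, 210, 11),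
          (58520, 1540, 1), (87780, 1540, 1)] : List (ℕ × ℕ × ℕ)) := by decide +kernel
    exact hall e (Nat.mem_divisors.2 ⟨h.e_dvd, by norm_num⟩) h.two_le c
      (Nat.mem_divisors.2 ⟨(dvd_mul_left c (n * e)).trans hd, by norm_num⟩) n (by simpa using hn) hd hne
  have loc : ∀ (p : ℕ) [Fact p.Prime], p ∣ Nat.card G → ¬ p ^ 2 ∣ Nat.card G → ∃ n c e : ℕ, Loc G p n c e ∧
      (Check p (n / p) ∨ Nat.card G * 2 = p * ((p - 1) * (p + 1)) ∨ Nat.card G = p * ((p - 1) * (p - 2))) :=
    fun p _ => exists_loc hna p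
  simp only [List.mem_cons, Prod.mk.injEq, List.not_mem_nil, or_false] at hec
  rcases hec with ⟨hN, hn', hc⟩ | ⟨hN, hn', hc⟩ | ⟨hN, hn', hc⟩ | ⟨hN, hn', hc⟩ | ⟨hN, hn', hc⟩ <;>
    subst hn' hc
  · obtain ⟨n7, c7, e7, h7, hx7⟩ := loc 7 (by rw [hN]; norm_num) (by rw [hN]; norm_num)
    obtain ⟨n5, c5, e5, h5, hx5⟩ := loc 5 (by rw [hN]; norm_num) (by rw [hN]; norm_num)
    have o7 := options (m := 1140) h7 (by rw [hN]) hx7 (by norm_num) (by norm_num) [19]
      (by simpa using fun hd => absurd (h7.adj h (by norm_num) hd) (by norm_num))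
      [(190, 3), (190, 2), (190, 1)] (by decide +kernel)
    have o5 := options (m := 1596) h5 (by rw [hN]) hx5 (by norm_num) (by norm_num) [19]
      (by simpa using fun hd => absurd (h5.adj h (by norm_num) hd) (by norm_num))
      [(266, 3)] (by decide +kernel)
    simp only [List.mem_cons, Prod.mk.injEq, List.not_mem_nil, or_false] at o5 o7
    obtain ⟨rfl, rfl⟩ := o5
    have hn7 : n7 = 190 := by omega
    subst hn7
    refine count_contra hN [(19, 3780), (7, 1140), (5, 1064), (5 * 3, 2128)] (by decide) ?_ (by norm_num)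
    simp only [List.mem_cons, List.not_mem_nil, or_false, forall_eq_or_imp, forall_eq]
    exact ⟨h.card_orderOf.ge, h7.card_orderOf.ge, h5.card_orderOf.ge,
      h5.card_orderOf_mul (by norm_num) dvd_rfl⟩
  · obtain ⟨P⟩ : Nonempty (Sylow 19 G) := inferInstance
    have : Fact (Nat.Prime 2) := ⟨Nat.prime_two⟩
    obtain ⟨t, ht⟩ := exists_prime_orderOf_dvd_card'
      (G := Subgroup.centralizer ((P : Subgroup G) : Set G)) 2 (by rw [h.cent P]; norm_num)
    have ht2 : orderOf (t : G) = 2 := (Subgroup.orderOf_coe t).trans ht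
    obtain ⟨S⟩ : Nonempty (Sylow 2 G) := inferInstance
    have hS : Nat.card (S : Subgroup G) = 8 := by
      simpa using SmallOrder.card_sylow_eq_pow (a := 3) (m := 1995) (by rw [hN]; norm_num) (by norm_num) S
    have h8 := eight_dvd_centralizer hna S hS t ht2
    set D := Subgroup.centralizer ({(t : G)} : Set G) with hD
    have hPD : (P : Subgroup G) ≤ D := fun v hv => Subgroup.mem_centralizer_singleton_iff.2
      (Subgroup.mem_centralizer_iff.1 t.2 v hv)
    have hDt : D ≠ ⊤ := fun hD' => by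
      have : (t : G) ∈ Subgroup.center G := Subgroup.mem_center_iff.2 fun g =>
        Subgroup.mem_centralizer_singleton_iff.1 (hD' ▸ Subgroup.mem_top g : g ∈ D)
      rw [SmallOrder.center_eq_bot hna, Subgroup.mem_bot] at this
      rw [this, orderOf_one] at ht2; omega
    have hn : ((P.subtype hPD : Sylow 19 D) : Subgroup D).Normal :=
      ih D (lt_of_le_of_ne D.card_le_card_group fun he => hDt (Subgroup.eq_top_of_card_eq D he))
        (D.card_subgroup_dvd_card.trans hG) (h.sylow P ▸ Subgroup.card_dvd_of_le hPD) _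
    have hle : D ≤ Subgroup.normalizer ((P : Subgroup G) : Set G) := by
      rw [← Subgroup.normal_subgroupOf_iff_le_normalizer hPD]
      exact hn
    have hdd := h8.trans (Subgroup.card_dvd_of_le hle)
    rw [h.norm P] at hdd
    have he : e = 2 := by have := h.card; rw [hN] at this; omega
    subst he
    norm_num at hdd
  · obtain ⟨n11, c11, e11, h11, hx11⟩ := loc 11 (by rw [hN]; norm_num) (by rw [hN]; norm_num)
    obtain ⟨n7, c7, e7, h7, hx7⟩ := loc 7 (by rw [hN]; norm_num) (by rw [hN]; norm_num)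
    obtain ⟨n5, c5, e5, h5, hx5⟩ := loc 5 (by rw [hN]; norm_num) (by rw [hN]; norm_num)
    have h19c : 19 ∣ c11 := h.adj h11 (by norm_num) dvd_rfl
    have o11 := options (m := 7980) h11 (by rw [hN]) hx11 (by norm_num) (by norm_num) [] (by simp)
      [(210, 19), (1596, 1)] (by decide +kernel)
    simp only [List.mem_cons, Prod.mk.injEq, List.not_mem_nil, or_false] at o11
    obtain ⟨rfl, rfl⟩ : n11 = 210 ∧ c11 = 19 := by
      rcases o11 with o | ⟨-, rfl⟩
      · exact o
      · norm_num at h19c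
    have o5 := options (m := 17556) h5 (by rw [hN]) hx5 (by norm_num) (by norm_num) [19, 11]
      (by simpa using ⟨fun hd => absurd (h5.adj h (by norm_num) hd) (by norm_num),
        fun hd => absurd (h5.adj h11 (by norm_num) hd) (by norm_num)⟩)
      [(2926, 3)] (by decide +kernel)
    simp only [List.mem_cons, Prod.mk.injEq, List.not_mem_nil, or_false] at o5
    obtain ⟨rfl, rfl⟩ := o5
    have o7 := options (m := 12540) h7 (by rw [hN]) hx7 (by norm_num) (by norm_num) [19, 11, 5]
      (by simpa using ⟨fun hd => absurd (h7.adj h (by norm_num) hd) (by norm_num),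
        fun hd => absurd (h7.adj h11 (by norm_num) hd) (by norm_num),
        fun hd => absurd (h7.adj h5 (by norm_num) hd) (by norm_num)⟩)
      [(4180, 1)] (by decide +kernel)
    simp only [List.mem_cons, Prod.mk.injEq, List.not_mem_nil, or_false] at o7
    obtain ⟨rfl, rfl⟩ := o7
    refine count_contra hN [(19, 3780), (11, 2100), (19 * 11, 37800), (7, 25080), (5, 11704), (5 * 3, 23408)]
      (by decide) ?_ (by norm_num)
    simp only [List.mem_cons, List.not_mem_nil, or_false, forall_eq_or_imp, forall_eq]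
    exact ⟨h.card_orderOf.ge, h11.card_orderOf.ge, h.card_orderOf_mul (by norm_num) dvd_rfl,
      h7.card_orderOf.ge, h5.card_orderOf.ge, h5.card_orderOf_mul (by norm_num) dvd_rfl⟩
  · obtain ⟨n11, c11, e11, h11, hx11⟩ := loc 11 (by rw [hN]; norm_num) (by rw [hN]; norm_num)
    have o11 := options (m := 5320) h11 (by rw [hN]) hx11 (by norm_num) (by norm_num) [] (by simp)
      [] (by decide +kernel)
    simp at o11
  · obtain ⟨n11, c11, e11, h11, hx11⟩ := loc 11 (by rw [hN]; norm_num) (by rw [hN]; norm_num)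
    obtain ⟨n7, c7, e7, h7, hx7⟩ := loc 7 (by rw [hN]; norm_num) (by rw [hN]; norm_num)
    obtain ⟨n5, c5, e5, h5, hx5⟩ := loc 5 (by rw [hN]; norm_num) (by rw [hN]; norm_num)
    have o11 := options (m := 7980) h11 (by rw [hN]) hx11 (by norm_num) (by norm_num) [19]
      (by simpa using fun hd => absurd (h11.adj h (by norm_num) hd) (by norm_num))
      [(1596, 1)] (by decide +kernel)
    simp only [List.mem_cons, Prod.mk.injEq, List.not_mem_nil, or_false] at o11
    obtain ⟨rfl, rfl⟩ := o11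
    have o5 := options (m := 17556) h5 (by rw [hN]) hx5 (by norm_num) (by norm_num) [19, 11]
      (by simpa using ⟨fun hd => absurd (h5.adj h (by norm_num) hd) (by norm_num),
        fun hd => absurd (h5.adj h11 (by norm_num) hd) (by norm_num)⟩)
      [(2926, 3)] (by decide +kernel)
    simp only [List.mem_cons, Prod.mk.injEq, List.not_mem_nil, or_false] at o5
    obtain ⟨rfl, rfl⟩ := o5
    have o7 := options (m := 12540) h7 (by rw [hN]) hx7 (by norm_num) (by norm_num) [19, 11, 5]
      (by simpa using ⟨fun hd => absurd (h7.adj h (by norm_num) hd) (by norm_num),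
        fun hd => absurd (h7.adj h11 (by norm_num) hd) (by norm_num),
        fun hd => absurd (h7.adj h5 (by norm_num) hd) (by norm_num)⟩)
      [(4180, 1)] (by decide +kernel)
    simp only [List.mem_cons, Prod.mk.injEq, List.not_mem_nil, or_false] at o7
    obtain ⟨rfl, rfl⟩ := o7
    refine count_contra hN [(19, 27720), (11, 15960), (7, 25080), (5, 11704), (5 * 3, 23408)]
      (by decide) ?_ (by norm_num)
    simp only [List.mem_cons, List.not_mem_nil, or_false, forall_eq_or_imp, forall_eq]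
    exact ⟨h.card_orderOf.ge, h11.card_orderOf.ge, h7.card_orderOf.ge, h5.card_orderOf.ge,
      h5.card_orderOf_mul (by norm_num) dvd_rfl⟩

theorem below : ∀ N : ℕ, N ≤ 175560 → Below.{u} N := by
  intro N
  induction N using Nat.strong_induction_on with
  | _ N ih =>
    intro hN H _ _ hlt hdvd h19 P
    have ihH : Below.{u} (Nat.card H) := ih _ hlt (hlt.le.trans hN)
    have : Fact (Nat.Prime 19) := ⟨by norm_num⟩
    by_cases hnorm : ∃ K : Subgroup H, K.Normal ∧ K ≠ ⊥ ∧ K ≠ ⊤
    · obtain ⟨K, hK, h0, h1⟩ := hnorm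
      exact of_not_simple hdvd h19 ihH K h0 h1 P
    have : Nontrivial H := Finite.one_lt_card_iff_nontrivial.1
      (lt_of_lt_of_le (by norm_num) (Nat.le_of_dvd Nat.card_pos h19))
    have : IsSimpleGroup H := ⟨fun K hK => by
      by_contra hc
      push Not at hc
      exact hnorm ⟨K, hK, hc⟩⟩
    by_cases hna : IsMulCommutative H
    · exact ⟨fun a ha g => by rw [hna.1.comm g a, mul_inv_cancel_right]; exact ha⟩
    exact absurd (not_simple hna hdvd (hlt.trans_le hN) h19 ihH) not_false

theorem simple_or_normal {G : Type u} [Group G] [Finite G] (hG : Nat.card G = 175560) :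
    IsSimpleGroup G ∨ ∀ P : Sylow 19 G, (P : Subgroup G).Normal := by
  by_cases hnorm : ∃ K : Subgroup G, K.Normal ∧ K ≠ ⊥ ∧ K ≠ ⊤
  · obtain ⟨K, hK, h0, h1⟩ := hnorm
    exact Or.inr fun P => of_not_simple (hG ▸ dvd_rfl) (by rw [hG]; norm_num)
      (hG ▸ below _ le_rfl) K h0 h1 P
  · left
    have : Nontrivial G := Finite.one_lt_card_iff_nontrivial.1 (by rw [hG]; norm_num)
    exact ⟨fun K hK => by
      by_contra hc
      push Not at hc
      exact hnorm ⟨K, hK, hc⟩⟩

end Cfsg.Agent.Order175560
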